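import Groth.Agent.VarietyLib.LerayEuler
import Groth.Agent.H8Lim.FibreDimVanish
import Groth.Agent.CurveRR24.Degree
import Groth.Agent.CurveRR24.Section
import Groth.Agent.Coherent.ProjFormula
import Groth.Agent.Coherent.BirationalFibre
import Groth.Agent.BlowUpLib.Birational
import Groth.Agent.CommAlg4.SupportZero
import Groth.Agent.TFPush7.BirDual
import Groth.Agent.DimLib.Bound
import Groth.Agent.ResProp8.Basics
import Groth.Agent.CAlgH3.Serre
import Groth.Agent.S14698
import Groth.Prelude.Def_ClSub2

/-!
# Euler characteristics along proper morphisms which are isomorphisms off finitely many points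
-/

set_option autoImplicit false
set_option linter.style.haveILetI false
set_option linter.unusedSectionVars false
set_option backward.isDefEq.respectTransparency.types false
set_option maxHeartbeats 1000000

universe u

open CategoryTheory CategoryTheory.Limits AlgebraicGeometry Opposite TopologicalSpace
open Groth.Agent.Coherent Groth.Agent.PicLib Groth.Agent.AmpleLib Groth.Agent.EulerLib

namespace Groth.Agent.Birat14

variable (k : Type u) [Field k] {X Y : Scheme.{u}} [X.Over (Spec (CommRingCat.of k))]
  [IsProper (X ↘ Spec (CommRingCat.of k))] [Y.Over (Spec (CommRingCat.of k))]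
  (f : Y ⟶ X) [IsProper f]

omit [X.Over (Spec (CommRingCat.of k))] [IsProper (X ↘ Spec (CommRingCat.of k))] [Y.Over (Spec (CommRingCat.of k))] [IsProper f] in
/-- The fibre over a point of an open over which the morphism is an isomorphism is a point. -/
theorem fibre_dim_le_zero (U : X.Opens) [IsIso (f ∣_ U)] {x : X} (hx : x ∈ U) :
    topologicalKrullDim ↥(f.fiber x) ≤ ((0 : ℕ) : WithBot ℕ∞) := by
  have hsub : Subsingleton ↥(f.fiber x) := by
    refine @Equiv.subsingleton _ _ (f.fiberHomeo x).toEquiv ⟨fun a b => Subtype.ext ?_⟩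
    have ha : a.1 ∈ f ⁻¹ᵁ U := show f a.1 ∈ U by rw [show f a.1 = x from a.2]; exact hx
    have hb : b.1 ∈ f ⁻¹ᵁ U := show f b.1 ∈ U by rw [show f b.1 = x from b.2]; exact hx
    have hh : (f ∣_ U) ⟨a.1, ha⟩ = (f ∣_ U) ⟨b.1, hb⟩ := Subtype.ext (by
      rw [morphismRestrict_base_coe, morphismRestrict_base_coe]
      exact (show f a.1 = x from a.2).trans (show f b.1 = x from b.2).symm)
    have h' := (f ∣_ U).homeomorph.injective hh
    exact congrArg (fun z : (f ⁻¹ᵁ U).toScheme => z.1) h'
  haveI := hsub
  haveI : Subsingleton (IrreducibleCloseds ↥(f.fiber x)) := ⟨fun A B => IrreducibleCloseds.ext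
    ((Set.subsingleton_of_subsingleton.eq_empty_or_singleton (s := (A : Set ↥(f.fiber x)))).elim
      (fun h => absurd h A.2.nonempty.ne_empty) fun ⟨a, ha⟩ => by
        obtain ⟨b, hb⟩ := B.2.nonempty
        rw [ha]
        exact Set.eq_of_subset_of_subset (fun z hz => by rw [Set.mem_singleton_iff.1 hz, Subsingleton.elim a b]; exact hb)
          (fun z _ => Subsingleton.elim z a))⟩
  exact_mod_cast (Order.krullDim_nonpos_of_subsingleton (α := IrreducibleCloseds ↥(f.fiber x)))

/-- The higher direct images are supported outside. -/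
theorem support_rpush_subset [HasInjectiveResolutions Y.Modules] (U : X.Opens) [IsIso (f ∣_ U)]
    [IsLocallyNoetherian X] {M : Y.Modules} (hM : Coh.IsCoh M) {i : ℕ} (hi : 0 < i) :
    CohB1.support ((Coh.Rpush f i).obj M) ⊆ (U : Set X)ᶜ := fun x hx hxU => hx
  (AddCommGrpCat.subsingleton_of_isZero
    ((H8Lim.isZero_stalk_rpushAb_of_fibre_dim f hM x 0 (fibre_dim_le_zero f U hxU) i hi).of_iso
      ((TopCat.Presheaf.stalkFunctor AddCommGrpCat.{u} x).mapIso
        ((sheafToPresheaf _ _).mapIso ((toAbRpushNatIso f i).app M))) :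
      IsZero (((Coh.Rpush f i).obj M).presheaf.stalk x)))

include k in
theorem isClosed_singleton_of_mem {T : Set X} (hT : IsClosed T) (hfin : T.Finite) {x : X} (hx : x ∈ T) :
    IsClosed ({x} : Set X) := by
  haveI : JacobsonSpace X := LocallyOfFiniteType.jacobsonSpace (X ↘ Spec (CommRingCat.of k))
  exact S14698.isClosed_singleton_of_finite hT hfin hx

include k in
theorem dim_lt_one {T S : Set X} (hT : IsClosed T) (hfin : T.Finite) (hS : S ⊆ T) :
    topologicalKrullDim S < ((1 : ℕ) : WithBot ℕ∞) := by
  have h1 : ∀ z : S, IsClosed ({z} : Set S) := fun z => by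
    have := (isClosed_singleton_of_mem k hT hfin (hS z.2)).preimage (continuous_subtype_val : Continuous (Subtype.val : S → X))
    convert this using 1
    ext w
    simp [Subtype.ext_iff]
  haveI : T1Space S := ⟨h1⟩
  haveI : Finite S := (hfin.subset hS).to_subtype
  haveI : DiscreteTopology S := inferInstance
  refine lt_of_le_of_lt ((Order.krullDim_nonpos_iff_forall_isMax (α := IrreducibleCloseds S)).2 fun A B hAB => ?_)
    (by exact_mod_cast zero_lt_one)
  intro x hx
  obtain ⟨a, ha⟩ := A.2.nonempty
  exact (B.2.2.subsingleton hx (hAB ha)) ▸ ha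

/-- **Euler characteristic of a pullback** along a morphism with connected fibres, iso off finitely many points. -/
theorem euler_pullback_sub [HasInjectiveResolutions Y.Modules]
    (hf : f ≫ (X ↘ Spec (CommRingCat.of k)) = Y ↘ Spec (CommRingCat.of k))
    (U : X.Opens) [IsIso (f ∣_ U)] (hU : ((U : Set X)ᶜ).Finite) (hO : IsIso (ClSub.unitToPush f))
    {d : ℕ} (hd : topologicalKrullDim Y < (d : WithBot ℕ∞))
    {L : X.Modules} (hL : PicF.IsInvertible L) :
    Curv2.euler k Y ((Scheme.Modules.pullback f).obj L) - Curv2.euler k Y (Coh.structureModule Y) =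
      Curv2.euler k X L - Curv2.euler k X (Coh.structureModule X) := by
  haveI := isNoetherian_of_proper (X := X) k
  haveI : IsProper (Y ↘ Spec (CommRingCat.of k)) := by rw [← hf]; infer_instance
  haveI := isNoetherian_of_proper (X := Y) k
  obtain ⟨N, hN⟩ := VarietyLib.exists_bound_isZero_rpush f
  have hN' : ∀ M : Y.Modules, Coh.IsQCoh M → IsZero ((Coh.Rpush f (N + 1)).obj M) := fun M hM =>
    hN M hM _ (Nat.le_succ N)
  have hLY := PicLoc.isInvertible_pullback f hL
  have hO' := isCoh_structureModule Y
  have hsup : ∀ M : Y.Modules, topologicalKrullDim (CohB1.support M) < (d : WithBot ℕ∞) := fun M =>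
    lt_of_le_of_lt (Topology.IsInducing.topologicalKrullDim_le Topology.IsInducing.subtypeVal) hd
  rw [VarietyLib.euler_eq_rhoEuler k f hf N.succ_pos hN' d _ (CurveRR24.isCoh_of_isInvertible k hLY) (hsup _),
    VarietyLib.euler_eq_rhoEuler k f hf N.succ_pos hN' d _ hO' (hsup _)]
  simp only [VarietyLib.rhoEuler]
  rw [← Finset.sum_sub_distrib, Finset.sum_eq_single_of_mem 0 (Finset.mem_range.2 N.succ_pos)]
  · haveI : PreservesFiniteLimits (Coh.push f) :=
      have : (Coh.push f).IsRightAdjoint :=
        (Scheme.Modules.pullbackPushforwardAdjunction f).isRightAdjoint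
      ⟨fun _ _ _ => inferInstance⟩
    have hLF : FlatMod.IsFinLocFree L := fun x =>
      let ⟨W, hx, e⟩ := PicLib.isFinLocFreeOfRank_one hL x; ⟨W, 1, hx, e⟩
    obtain ⟨e⟩ := nonempty_projection_formula (f := f) hLF (Coh.structureModule Y) 0
    let eO : (Coh.Rpush f 0).obj (Coh.structureModule Y) ≅ Coh.structureModule X :=
      (Coh.push f).rightDerivedZeroIsoSelf.app _ ≪≫ (asIso (ClSub.unitToPush f)).symm
    let eL : (Coh.Rpush f 0).obj ((Scheme.Modules.pullback f).obj L) ≅ L :=
      (Coh.Rpush f 0).mapIso ((unitTensorIso _).symm ≪≫ tensorComm _ _) ≪≫ e.symm ≪≫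
        AmpleLib.tensorIso (Iso.refl L) eO ≪≫ tensorComm _ _ ≪≫ unitTensorIso L
    rw [pow_zero, one_mul, one_mul, euler_congr k X eL, euler_congr k X eO]
  · intro i _ hi
    have hLF : FlatMod.IsFinLocFree L := fun x =>
      let ⟨W, hx, e⟩ := PicLib.isFinLocFreeOfRank_one hL x; ⟨W, 1, hx, e⟩
    obtain ⟨e⟩ := nonempty_projection_formula (f := f) hLF (Coh.structureModule Y) i
    let e' : (Coh.Rpush f i).obj ((Scheme.Modules.pullback f).obj L) ≅
        CohB1.tensorMod ((Coh.Rpush f i).obj (Coh.structureModule Y)) L :=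
      (Coh.Rpush f i).mapIso ((unitTensorIso _).symm ≪≫ tensorComm _ _) ≪≫ e.symm ≪≫ tensorComm _ _
    have hQ : Coh.IsCoh ((Coh.Rpush f i).obj (Coh.structureModule Y)) := Coherent.isCoh_rpush f hO' i
    rw [euler_congr k X e', CurveRR24.euler_twist_of_small k hQ hL
      (dim_lt_one k U.2.isClosed_compl hU (support_rpush_subset f U hO' (Nat.pos_of_ne_zero hi))), sub_self]

omit [X.Over (Spec (CommRingCat.of k))] [IsProper (X ↘ Spec (CommRingCat.of k))] [Y.Over (Spec (CommRingCat.of k))] [IsProper f] in
/-- `O = b_* O` from bijectivity on sections. -/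
theorem isIso_unitToPush_of_app (happ : ∀ V : X.Opens, IsIso (f.app V)) : IsIso (ClSub.unitToPush f) := by
  refine Scheme.Modules.Hom.isIso_iff_isIso_app.2 fun V => ?_
  rw [ConcreteCategory.isIso_iff_bijective]
  haveI := happ V
  exact ConcreteCategory.bijective_of_isIso (f.app V)

/-- For a proper birational morphism onto a normal scheme the direct image of the structure sheaf is the structure sheaf. -/
theorem isIso_unitToPush_of_birational [IsIntegral X] [IsIntegral Y] [IsLocallyNoetherian X] (hn : Pi1.IsNormalScheme X)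
    (U : X.Opens) (hU : (U : Set X).Nonempty) [IsIso (f ∣_ U)] : IsIso (ClSub.unitToPush f) := by
  obtain ⟨hgen, -⟩ := BlowUpLib.Birat.generic_data_of_isIso_restrict f hU
  have hη : f (genericPoint Y) ∈ U := by
    rw [hgen]; exact ((genericPoint_spec X).mem_open_set_iff U.2).2 (by obtain ⟨x, hx⟩ := hU; exact ⟨x, trivial, hx⟩)
  have hst : IsIso (f.stalkMap (genericPoint Y)) := by
    have h : IsIso ((f ∣_ U).stalkMap ⟨genericPoint Y, hη⟩) :=
      ((isIso_iff_isIso_stalkMap (f ∣_ U)).mp inferInstance).2 _
    exact ((MorphismProperty.isomorphisms CommRingCat.{u}).arrow_mk_iso_iff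
      (morphismRestrictStalkMap f U ⟨genericPoint Y, hη⟩)).1 h
  exact isIso_unitToPush_of_app f fun V => Coherent.isIso_app_of_birational f hn hgen hst V

include k in
/-- The complement of the regular locus of a normal surface is finite. -/
theorem finite_compl_regular [IsIntegral X] (hdim : topologicalKrullDim X = 2) (hn : Pi1.IsNormalScheme X)
    (U : X.Opens) (hU : ∀ x : X, x ∈ U ↔ IsRegularLocalRing (X.presheaf.stalk x)) : ((U : Set X)ᶜ).Finite := by
  haveI := isNoetherian_of_proper (X := X) k
  have hT : IsClosed ((U : Set X)ᶜ) := U.2.isClosed_compl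
  have h := ResProp8.dim_lt_of_le_stalk hT (c := 2) (d := 2) (q := 1) hdim.le (by norm_num) fun x hx => by
    haveI := (hn x).1
    haveI := (hn x).2
    by_contra hlt
    refine hx ((hU x).2 (CAlgH3.isRegularLocalRing_of_normal_dim_le_one ?_))
    have h2 := not_le.1 hlt
    generalize ringKrullDim (X.presheaf.stalk x) = e at h2 ⊢
    cases e with
    | bot => exact bot_le
    | coe c =>
      cases c with
      | top => exact absurd h2 (not_lt.2 le_top)
      | coe n =>
        have h3 : (n : ℕ∞) < ((2 : ℕ) : ℕ∞) := WithBot.coe_lt_coe.1 h2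
        exact WithBot.coe_le_coe.2 (Nat.cast_le.2 (Nat.lt_succ_iff.1 (Nat.cast_lt.1 h3)))
  refine (CommAlg4.finite_and_isClosed_singleton_of_dim_le_zero hT ?_).1
  generalize topologicalKrullDim ((U : Set X)ᶜ : Set X) = e at h ⊢
  cases e with
  | bot => exact bot_le
  | coe c =>
    cases c with
    | top => exact absurd h (not_lt.2 le_top)
    | coe n =>
      have h3 : (n : ℕ∞) < ((1 : ℕ) : ℕ∞) := WithBot.coe_lt_coe.1 h
      exact WithBot.coe_le_coe.2 (Nat.cast_le.2 (Nat.lt_succ_iff.1 (Nat.cast_lt.1 h3)))

/-- `R¹f_*O = 0` iff `f` keeps the Euler characteristic (surfaces, iso off finitely many points). -/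
theorem isZero_R1_iff_of_finite [IsIntegral X] [IsIntegral Y] [HasInjectiveResolutions Y.Modules]
    (hf : f ≫ (X ↘ Spec (CommRingCat.of k)) = Y ↘ Spec (CommRingCat.of k))
    (hdimX : topologicalKrullDim X = 2) (hdimY : topologicalKrullDim Y = 2) 
    (U : X.Opens) (hne : (U : Set X).Nonempty) (hfin : ((U : Set X)ᶜ).Finite) [IsIso (f ∣_ U)]
    (hO : IsIso (ClSub.unitToPush f)) :
    IsZero ((Coh.RpushAb f 1).obj (Coh.toAb (Coh.structureModule Y))) ↔
      Curv2.euler k Y (Coh.structureModule Y) = Curv2.euler k X (Coh.structureModule X) := by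
  haveI := isNoetherian_of_proper (X := X) k
  haveI : IsProper (Y ↘ Spec (CommRingCat.of k)) := by rw [← hf]; infer_instance
  haveI := isNoetherian_of_proper (X := Y) k
  have hc : ∀ z ∈ ((U : Set X)ᶜ), IsClosed ({z} : Set X) := fun z hz =>
    isClosed_singleton_of_mem k U.2.isClosed_compl hfin hz
  have hO' := isCoh_structureModule Y
  have hY2 : topologicalKrullDim Y = ((2 : ℕ) : WithBot ℕ∞) := hdimY
  have hη : genericPoint X ∈ U :=
    ((genericPoint_spec X).mem_open_set_iff U.2).2 ⟨hne.some, trivial, hne.some_mem⟩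
  have hgen : f (genericPoint Y) = genericPoint X :=
    (BlowUpLib.Birat.generic_data_of_isIso_restrict f ⟨_, hη⟩).1
  have hvan : ∀ i : ℕ, 2 ≤ i → IsZero ((Coh.Rpush f i).obj (Coh.structureModule Y)) := fun i hi =>
    ModStalk.isZero_of_stalks fun x => by
      have hdimf : topologicalKrullDim ↥(f.fiber x) ≤ ((1 : ℕ) : WithBot ℕ∞) := by
        by_cases hx : x ∈ U
        · exact (fibre_dim_le_zero f U hx).trans (by exact_mod_cast Nat.zero_le 1)
        · rw [DimLib.topologicalKrullDim_fiber_eq_preimage]
          have hlt := TFPush7.topologicalKrullDim_lt_of_ne_univ (d := 2) hY2 (Z := f.base ⁻¹' {x})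
            ((hc x hx).preimage f.continuous) fun he => hx (by
              have : f.base (genericPoint Y) = x := (he.symm ▸ Set.mem_univ _ : genericPoint Y ∈ f.base ⁻¹' {x})
              rw [← this]
              exact hgen.symm ▸ hη)
          generalize topologicalKrullDim ↥(f.base ⁻¹' {x}) = e at hlt ⊢
          cases e with
          | bot => exact bot_le
          | coe c =>
            cases c with
            | top => exact absurd hlt (not_lt.2 le_top)
            | coe n =>
              have h3 : (n : ℕ∞) < ((2 : ℕ) : ℕ∞) := WithBot.coe_lt_coe.1 hlt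
              exact WithBot.coe_le_coe.2 (Nat.cast_le.2 (Nat.lt_succ_iff.1 (Nat.cast_lt.1 h3)))
      haveI : Subsingleton ((DerSch.stalkFunctor X x).obj ((Coh.Rpush f i).obj (Coh.structureModule Y))) :=
        AddCommGrpCat.subsingleton_of_isZero
          (((H8Lim.isZero_stalk_rpushAb_of_fibre_dim f hO' x 1 hdimf i hi).of_iso
            ((TopCat.Presheaf.stalkFunctor AddCommGrpCat.{u} x).mapIso
              ((sheafToPresheaf _ _).mapIso ((toAbRpushNatIso f i).app (Coh.structureModule Y))))) :
            IsZero (((Coh.Rpush f i).obj (Coh.structureModule Y)).presheaf.stalk x))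
      exact ModuleCat.isZero_of_subsingleton _
  have h3 : topologicalKrullDim (CohB1.support (Coh.structureModule Y)) < ((3 : ℕ) : WithBot ℕ∞) :=
    lt_of_le_of_lt (Topology.IsInducing.topologicalKrullDim_le Topology.IsInducing.subtypeVal)
      (by rw [hY2]; decide)
  have he := VarietyLib.euler_eq_rhoEuler k f hf (N := (VarietyLib.exists_bound_isZero_rpush f).choose + 2)
    (Nat.succ_pos _) (fun M hM => (VarietyLib.exists_bound_isZero_rpush f).choose_spec M hM _ (Nat.le_add_right _ _))
    3 _ hO' h3
  haveI : PreservesFiniteLimits (Coh.push f) :=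
    have : (Coh.push f).IsRightAdjoint :=
      (Scheme.Modules.pullbackPushforwardAdjunction f).isRightAdjoint
    ⟨fun _ _ _ => inferInstance⟩
  set R := (Coh.Rpush f 1).obj (Coh.structureModule Y) with hRdef
  have hkey : Curv2.euler k Y (Coh.structureModule Y) =
      Curv2.euler k X (Coh.structureModule X) - Curv2.euler k X R := by
    rw [he, VarietyLib.rhoEuler, ← Finset.sum_subset (s₁ := Finset.range 2)
      (Finset.range_mono (Nat.le_add_left 2 _)) fun i _ hi => by
        rw [euler_of_isZero k X (hvan i (not_lt.1 fun h => hi (Finset.mem_range.2 h))), mul_zero]]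
    rw [Finset.sum_range_succ, Finset.sum_range_one, pow_zero, pow_one, one_mul, neg_one_mul, ← sub_eq_add_neg,
      euler_congr k X ((Coh.push f).rightDerivedZeroIsoSelf.app _ ≪≫ (asIso (ClSub.unitToPush f)).symm)]
  have hR : Coh.IsCoh R := Coherent.isCoh_rpush f hO' 1
  have hsupp : CohB1.support R ⊆ (U : Set X)ᶜ := support_rpush_subset f U hO' one_pos
  have heR : Curv2.euler k X R = (Module.finrank k (Coh.HH X R 0) : ℤ) := by
    rw [euler_eq_sum k X R 0 fun q hq => Coherent.subsingleton_HH_of_support_finite R _ hfin hc hsupp q hq]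
    simp [Finset.sum_range_succ]
  constructor
  · intro hz
    have hzR : IsZero R := (IsZero.iff_id_eq_zero _).2
      ((toAbFunctor X).map_injective ((hz.of_iso (toAbRpushIso f (Coh.structureModule Y) 1)).eq_of_src _ _))
    rw [hkey, euler_of_isZero k X hzR, sub_zero]
  · intro h
    have h0 : Module.finrank k (Coh.HH X R 0) = 0 := by omega
    haveI := CurveRR24.finite_HH_of_isCoh k hR 0
    haveI : Subsingleton (Coh.HH X R 0) := (Module.finrank_zero_iff (R := k)).1 h0
    haveI : Subsingleton (GA (baseHom k X) R) := (CurveRR24.hhZero k R).symm.toEquiv.subsingleton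
    have hzR : IsZero R := CurveRR24.isZero_of_finite_support hfin hc hsupp fun t =>
      Subsingleton.elim (α := GA (baseHom k X) R) t 0
    exact ((toAbFunctor X).map_isZero hzR).of_iso (toAbRpushIso f _ 1).symm


/-- On a normal surface `R¹π_*O = 0` iff the resolution keeps the Euler characteristic. -/
theorem isZero_R1_iff [IsIntegral X] [IsIntegral Y] [HasInjectiveResolutions Y.Modules]
    (hf : f ≫ (X ↘ Spec (CommRingCat.of k)) = Y ↘ Spec (CommRingCat.of k))
    (hdimX : topologicalKrullDim X = 2) (hdimY : topologicalKrullDim Y = 2) (hn : Pi1.IsNormalScheme X)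
    (U : X.Opens) (hU : ∀ x : X, x ∈ U ↔ IsRegularLocalRing (X.presheaf.stalk x)) [IsIso (f ∣_ U)]
    (hO : IsIso (ClSub.unitToPush f)) :
    IsZero ((Coh.RpushAb f 1).obj (Coh.toAb (Coh.structureModule Y))) ↔
      Curv2.euler k Y (Coh.structureModule Y) = Curv2.euler k X (Coh.structureModule X) := by
  haveI := isNoetherian_of_proper (X := X) k
  exact isZero_R1_iff_of_finite k f hf hdimX hdimY U
    ⟨genericPoint X, (hU _).2 (inferInstanceAs (IsRegularLocalRing X.functionField))⟩
    (finite_compl_regular k hdimX hn U hU) hO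

end Groth.Agent.Birat14
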